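import Groth.Agent.Lib.GrpSchField.ReducedProd
import Groth.Agent.Lib.SepField.Reduced
import Groth.Agent.Lib.Hopf.Translate
import Mathlib.RingTheory.HopfAlgebra.Quotient
import Mathlib.RingTheory.Etale.Field
import Mathlib.RingTheory.Jacobson.Ring
import Mathlib.RingTheory.Flat.FaithfullyFlat.Basic

/-!
An etale quotient with radicial kernel lifts uniquely: it is the reduced subgroup.
-/

universe u

set_option linter.style.haveILetI false
set_option maxSynthPendingDepth 3

open TensorProduct WithConv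

namespace GrothLib.Hopf14

variable {k : Type u} [Field k] {A C : Type u} [CommRing A] [HopfAlgebra k A] [Algebra.FiniteType k A]
  [CommRing C] [HopfAlgebra k C] (ψ : C →ₐc[k] A) (J : Ideal A)
  (hJ : J = Ideal.map (ψ : C →+* A) (RingHom.ker (Bialgebra.counitAlgHom k C))) [IsLocalRing (A ⧸ J)]

include hJ in
/-- Field points are determined by their restriction to the quotient when the kernel is local. -/
theorem algHom_eq_of_comp_eq {K : Type u} [Field K] [Algebra k K] (g h : A →ₐ[k] K)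
    (hgh : g.comp (ψ : C →ₐ[k] A) = h.comp (ψ : C →ₐ[k] A)) : g = h := by
  let n := (GrothLib.Hopf.pinv (toConv g) * toConv h).ofConv
  have hn : n.comp (ψ : C →ₐ[k] A) = (Algebra.ofId k K).comp (Bialgebra.counitAlgHom k C) := by
    have h1 := GrothLib.Hopf.convMul_comp_bialgHom ψ (GrothLib.Hopf.pinv (toConv g)) (toConv h)
    rw [ofConv_toConv, ← hgh] at h1
    have h2 := GrothLib.Hopf.convMul_comp_bialgHom ψ (GrothLib.Hopf.pinv (toConv g)) (toConv g)
    rw [ofConv_toConv, GrothLib.Hopf.pinv_mul, GrothLib.Hopf.convOne_comp_bialgHom] at h2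
    exact toConv_injective (h1.trans h2.symm)
  have hle : J ≤ RingHom.ker n := by
    rw [hJ, Ideal.map_le_iff_le_comap]
    intro c hc
    change n (ψ c) = 0
    exact (DFunLike.congr_fun hn c).trans (by
      rw [AlgHom.comp_apply, RingHom.mem_ker.mp hc, map_zero])
  let nb : A ⧸ J →ₐ[k] K := Ideal.Quotient.liftₐ J n fun a ha => hle ha
  haveI : IsJacobsonRing (A ⧸ J) := isJacobsonRing_of_finiteType (A := k)
  have hP : RingHom.ker nb = IsLocalRing.maximalIdeal (A ⧸ J) := by
    haveI : (RingHom.ker nb).IsPrime := RingHom.ker_isPrime nb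
    rw [← IsJacobsonRing.out' _ (Ideal.IsPrime.isRadical (inferInstance : (RingHom.ker nb).IsPrime)),
      IsLocalRing.jacobson_eq_maximalIdeal _ (Ideal.IsPrime.ne_top inferInstance)]
  have hε : ∀ x, x ∈ J → Bialgebra.counitAlgHom k A x = 0 := by
    intro x hx
    rw [hJ] at hx
    refine (Ideal.map_le_iff_le_comap (K := RingHom.ker (Bialgebra.counitAlgHom k A))).mpr ?_ hx
    intro c hc
    exact (CoalgHomClass.counit_comp_apply ψ c).trans (RingHom.mem_ker.mp hc :)
  let εb : A ⧸ J →ₐ[k] k := Ideal.Quotient.liftₐ J (Bialgebra.counitAlgHom k A) hε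
  have hεP : RingHom.ker εb = IsLocalRing.maximalIdeal (A ⧸ J) :=
    IsLocalRing.eq_maximalIdeal (RingHom.ker_isMaximal_of_surjective εb fun r => ⟨algebraMap k _ r, εb.commutes r⟩)
  have h1 : GrothLib.Hopf.pinv (toConv g) * toConv h = 1 := WithConv.ext (AlgHom.ext fun a => by
    have hmem : Ideal.Quotient.mk J a - algebraMap k _ (Bialgebra.counitAlgHom k A a) ∈ RingHom.ker εb := by
      rw [RingHom.mem_ker, map_sub, AlgHom.commutes]
      exact sub_self _
    rw [hεP, ← hP, RingHom.mem_ker, map_sub, AlgHom.commutes, sub_eq_zero] at hmem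
    rw [AlgHom.convOne_apply]
    exact hmem)
  exact toConv_injective (left_inv_eq_right_inv (GrothLib.Hopf.mul_pinv (toConv g)) h1)

variable [PerfectField k] [Algebra.Etale k C]

include hJ in
/-- The quotient is isomorphic to the reduced subgroup. -/
theorem bijective_mk_nilradical (hψ : Function.Injective ψ) :
    Function.Bijective ((Ideal.Quotient.mkₐ k (nilradical A)).comp (ψ : C →ₐ[k] A)) := by
  classical
  let A' := A ⧸ nilradical A
  let f : C →ₐ[k] A' := (Ideal.Quotient.mkₐ k (nilradical A)).comp (ψ : C →ₐ[k] A)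
  haveI : IsReduced C := Algebra.FormallyUnramified.isReduced_of_field k C
  refine ⟨(injective_iff_map_eq_zero f).mpr fun c hc => ?_, ?_⟩
  · have h0 : IsNilpotent (ψ c) := Ideal.Quotient.eq_zero_iff_mem.mp hc
    exact ((IsNilpotent.map_iff hψ).mp h0).eq_zero
  let K := AlgebraicClosure k
  haveI : IsReduced A' := (Ideal.isRadical_iff_quotient_reduced _).mp (Ideal.radical_isRadical _)
  haveI : Algebra.IsGeometricallyReduced k K := GrothLib.SepField.isGeometricallyReduced_of_perfectField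
  haveI : IsReduced (A' ⊗[k] K) := GrothLib.GrpSchField.isReduced_tensorProduct
  haveI : IsReduced (K ⊗[k] A') := isReduced_of_injective (Algebra.TensorProduct.comm k K A')
    (Algebra.TensorProduct.comm k K A').injective
  suffices hs : Function.Surjective (f.toLinearMap.lTensor K) from
    (Module.FaithfullyFlat.lTensor_surjective_iff_surjective k K f.toLinearMap).mp hs
  let B := K ⊗[k] A'
  let Ψ : K ⊗[k] C →ₐ[K] B := Algebra.TensorProduct.map (AlgHom.id K K) f
  have hΨ : ∀ x y, Ψ (x ⊗ₜ[k] y) = x ⊗ₜ[k] f y := fun x y => rfl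
  suffices hs : Function.Surjective Ψ by
    intro b
    obtain ⟨c, rfl⟩ := hs b
    refine ⟨c, ?_⟩
    clear hs
    induction c using TensorProduct.induction_on with
    | zero => simp
    | tmul x y => rw [hΨ, LinearMap.lTensor_tmul]; rfl
    | add x y hx hy => rw [map_add, map_add, hx, hy]
  haveI : IsSepClosed K := inferInstance
  let e := Algebra.FormallyEtale.equivPiOfIsSepClosed K (K ⊗[k] C)
  let p₀ : PrimeSpectrum K := ⟨⊥, Ideal.isPrime_bot⟩
  have he : ∀ (q : B →ₐ[K] K) c, e c (p₀.comap ((q.comp Ψ : K ⊗[k] C →ₐ[K] K) : K ⊗[k] C →+* K)) = q (Ψ c) := fun q c => by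
    rw [Algebra.FormallyEtale.equivPiOfIsSepClosed_comap, Algebra.FormallyEtale.equivPiOfIsSepClosed_self_apply]
    rfl
  have hinj : ∀ q q' : B →ₐ[K] K, p₀.comap ((q.comp Ψ : K ⊗[k] C →ₐ[K] K) : K ⊗[k] C →+* K) = p₀.comap ((q'.comp Ψ : K ⊗[k] C →ₐ[K] K) : K ⊗[k] C →+* K) → q = q' := by
    intro q q' h
    let ι : A →ₐ[k] B := (Algebra.TensorProduct.includeRight : A' →ₐ[k] B).comp (Ideal.Quotient.mkₐ k _)
    have h1 := algHom_eq_of_comp_eq ψ J hJ ((q.restrictScalars k).comp ι) ((q'.restrictScalars k).comp ι)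
      (AlgHom.ext fun c => by
        have h2 := (he q ((1 : K) ⊗ₜ c)).symm.trans ((congrArg (e _) h).trans (he q' _))
        rw [hΨ] at h2
        exact h2)
    refine Algebra.TensorProduct.ext (by ext) (AlgHom.ext fun a => ?_)
    obtain ⟨a, rfl⟩ := Ideal.Quotient.mk_surjective a
    exact DFunLike.congr_fun h1 a
  intro b
  let F : PrimeSpectrum (K ⊗[k] C) → K := fun s =>
    if h : ∃ q : B →ₐ[K] K, p₀.comap ((q.comp Ψ : K ⊗[k] C →ₐ[K] K) : K ⊗[k] C →+* K) = s then h.choose b else 0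
  refine ⟨e.symm F, ?_⟩
  have hq : ∀ q : B →ₐ[K] K, q (Ψ (e.symm F)) = q b := by
    intro q
    rw [← he, e.apply_symm_apply]
    have hex : ∃ q' : B →ₐ[K] K, p₀.comap ((q'.comp Ψ : K ⊗[k] C →ₐ[K] K) : K ⊗[k] C →+* K) = p₀.comap ((q.comp Ψ : K ⊗[k] C →ₐ[K] K) : K ⊗[k] C →+* K) := ⟨q, rfl⟩
    simp only [F, dif_pos hex]
    rw [hinj _ _ hex.choose_spec]
  haveI : IsJacobsonRing B := isJacobsonRing_of_finiteType (A := K)
  have hjac : Ideal.jacobson (⊥ : Ideal B) = ⊥ := IsJacobsonRing.out' _ fun x hx => by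
    obtain ⟨n, hn⟩ := hx
    exact Ideal.mem_bot.mpr (IsNilpotent.eq_zero ⟨n, Ideal.mem_bot.mp hn⟩)
  rw [← sub_eq_zero, ← Ideal.mem_bot, ← hjac, Ideal.jacobson, Ideal.mem_sInf]
  rintro I ⟨-, hI⟩
  haveI := hI
  letI := Ideal.Quotient.field I
  haveI : Module.Finite K (B ⧸ I) := finite_of_finite_type_of_isJacobsonRing K (B ⧸ I)
  let iK := AlgEquiv.ofBijective (Algebra.ofId K (B ⧸ I)) IsAlgClosed.algebraMap_bijective_of_isIntegral
  have h1 := hq (iK.symm.toAlgHom.comp (Ideal.Quotient.mkₐ K I))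
  simp only [AlgHom.comp_apply] at h1
  rw [← Ideal.Quotient.eq_zero_iff_mem, map_sub, sub_eq_zero]
  exact iK.symm.injective h1

include hJ in
/-- The unique lifting of an etale quotient with radicial kernel. -/
theorem existsUnique_lift (hψ : Function.Injective ψ) :
    (∃! r : A →ₐc[k] C, r.comp ψ = BialgHom.id k C) ∧
      ∀ r : A →ₐc[k] C, r.comp ψ = BialgHom.id k C → RingHom.ker (r : A →+* C) = nilradical A := by
  haveI : IsReduced C := Algebra.FormallyUnramified.isReduced_of_field k C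
  let e := AlgEquiv.ofBijective _ (bijective_mk_nilradical ψ J hJ hψ)
  have hnil : ∀ {X : Type u} [CommRing X] [Algebra k X] [IsReduced X] (φ φ' : A →ₐ[k] X),
      φ.comp (ψ : C →ₐ[k] A) = φ'.comp (ψ : C →ₐ[k] A) → φ = φ' := by
    intro X _ _ _ φ φ' h
    refine AlgHom.ext fun a => ?_
    obtain ⟨c, hc⟩ := e.surjective (Ideal.Quotient.mk _ a)
    have hd : IsNilpotent (ψ c - a) := by
      rw [← mem_nilradical, ← Ideal.Quotient.eq]
      exact hc
    have h1 := (hd.map φ).eq_zero
    have h2 := (hd.map φ').eq_zero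
    rw [map_sub, sub_eq_zero] at h1 h2
    rw [← h1, ← h2]
    exact DFunLike.congr_fun h c
  haveI : IsReduced (C ⊗[k] C) := by
    haveI : Algebra.Etale k (C ⊗[k] C) := Algebra.Etale.comp k C (C ⊗[k] C)
    exact Algebra.FormallyUnramified.isReduced_of_field k (C ⊗[k] C)
  let r₀ : A →ₐ[k] C := e.symm.toAlgHom.comp (Ideal.Quotient.mkₐ k (nilradical A))
  have hr₀ : ∀ c, r₀ (ψ c) = c := fun c => e.symm_apply_apply c
  let r : A →ₐc[k] C := BialgHom.ofAlgHom r₀
    (hnil _ _ (AlgHom.ext fun c => by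
      simp only [AlgHom.comp_apply, BialgHom.coe_toAlgHom, hr₀]
      exact (CoalgHomClass.counit_comp_apply ψ c).symm))
    (hnil _ _ (AlgHom.ext fun c => by
      simp only [AlgHom.comp_apply, BialgHom.coe_toAlgHom, hr₀]
      change TensorProduct.map r₀.toLinearMap r₀.toLinearMap (Coalgebra.comul (ψ c)) = Coalgebra.comul c
      rw [← CoalgHomClass.map_comp_comul_apply ψ c, ← LinearMap.comp_apply, ← TensorProduct.map_comp]
      conv_rhs => rw [← LinearMap.id_apply (R := k) (Coalgebra.comul c), ← TensorProduct.map_id]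
      congr 2 <;> exact LinearMap.ext hr₀))
  have hkey : ∀ r' : A →ₐc[k] C, r'.comp ψ = BialgHom.id k C → r' = r := fun r' h' =>
    BialgHom.ext fun a => DFunLike.congr_fun (hnil (r' : A →ₐ[k] C) r₀
      (AlgHom.ext fun c => (DFunLike.congr_fun h' c).trans (hr₀ c).symm)) a
  refine ⟨⟨r, BialgHom.ext hr₀, hkey⟩, fun r' h' => ?_⟩
  rw [hkey r' h']
  ext a
  change e.symm (Ideal.Quotient.mk _ a) = 0 ↔ _
  rw [map_eq_zero_iff e.symm e.symm.injective, Ideal.Quotient.eq_zero_iff_mem]

end GrothLib.Hopf14
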