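import Groth.Prelude.Def_SGA3
import Mathlib.RingTheory.Jacobson.Ring
import Mathlib.RingTheory.Noetherian.Basic
import Mathlib.RingTheory.Ideal.MinimalPrime.Noetherian
import Mathlib.FieldTheory.Separable
import Mathlib.FieldTheory.IsAlgClosed.Basic
import Mathlib.LinearAlgebra.Lagrange
import Mathlib.RingTheory.TensorProduct.Finite
import Mathlib.RingTheory.Idempotents
import Mathlib.RingTheory.FiniteStability

/-!
Separable elements of a Hopf subalgebra over an algebraically closed field form a Hopf subalgebra.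
-/

universe u

set_option linter.style.haveILetI false
set_option maxSynthPendingDepth 3

open TensorProduct

namespace GrothLib.Hopf14

variable {k : Type u} [Field k]

theorem finite_idempotents (C : Type u) [CommRing C] [IsNoetherianRing C] : {e : C | IsIdempotentElem e}.Finite := by
  haveI : Finite (minimalPrimes C) := (minimalPrimes.finite_of_isNoetherianRing C).to_subtype
  refine Set.finite_coe_iff.mp (Finite.of_injective
    (fun e : {e : C | IsIdempotentElem e} => {P : minimalPrimes C | (e : C) ∈ (P : Ideal C)}) fun ⟨e, he⟩ ⟨f, hf⟩ h => ?_)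
  have hmem : ∀ P : minimalPrimes C, e ∈ (P : Ideal C) ↔ f ∈ (P : Ideal C) := fun P => Set.ext_iff.mp h P
  refine Subtype.ext (eq_of_isNilpotent_sub_of_isIdempotentElem he hf ?_)
  rw [← mem_nilradical, nilradical, ← Ideal.sInf_minimalPrimes, Ideal.mem_sInf]
  intro P hP
  haveI := hP.1.1
  have h01 : ∀ g : C, IsIdempotentElem g → g ∈ P ∨ 1 - g ∈ P := fun g hg =>
    Ideal.IsPrime.mem_or_mem ‹_› (by rw [mul_sub, mul_one, hg.eq, sub_self]; exact P.zero_mem)
  rcases h01 e he with he' | he'
  · exact P.sub_mem he' ((hmem ⟨P, hP⟩).mp he')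
  · rcases h01 f hf with hf' | hf'
    · exact P.sub_mem ((hmem ⟨P, hP⟩).mpr hf') hf'
    · rw [show e - f = (1 - f) - (1 - e) by ring]; exact P.sub_mem hf' he'

variable [IsAlgClosed k]

theorem isNilpotent_of_forall_point {C : Type u} [CommRing C] [Algebra k C] [Algebra.FiniteType k C] (a : C)
    (h : ∀ x : C →ₐ[k] k, x a = 0) : IsNilpotent a := by
  haveI : IsJacobsonRing C := isJacobsonRing_of_finiteType (A := k)
  rw [← mem_nilradical, nilradical]
  have hjac : (⊥ : Ideal C).radical.jacobson = (⊥ : Ideal C).radical :=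
    IsJacobsonRing.out' _ (Ideal.radical_isRadical _)
  change a ∈ (⊥ : Ideal C).radical
  rw [← hjac, Ideal.jacobson, Ideal.mem_sInf]
  rintro I ⟨-, hI⟩
  haveI := hI
  letI := Ideal.Quotient.field I
  haveI : Module.Finite k (C ⧸ I) := finite_of_finite_type_of_isJacobsonRing k (C ⧸ I)
  let iK := AlgEquiv.ofBijective (Algebra.ofId k (C ⧸ I)) IsAlgClosed.algebraMap_bijective_of_isIntegral
  have h1 := h (iK.symm.toAlgHom.comp (Ideal.Quotient.mkₐ k I))
  rw [← Ideal.Quotient.eq_zero_iff_mem]
  exact iK.symm.injective (h1.trans (map_zero _).symm)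

theorem idem_eq_of_forall_point {C : Type u} [CommRing C] [Algebra k C] [Algebra.FiniteType k C] {e f : C}
    (he : IsIdempotentElem e) (hf : IsIdempotentElem f) (h : ∀ x : C →ₐ[k] k, x e = x f) : e = f :=
  eq_of_isNilpotent_sub_of_isIdempotentElem he hf
    (isNilpotent_of_forall_point (k := k) _ fun x => by rw [map_sub, h, sub_self])

/-- An idempotent of a tensor square of an algebra of finite type is built from idempotents. -/
theorem idem_mem_span_fg {C : Type u} [CommRing C] [Algebra k C] [Algebra.FiniteType k C] (F : C ⊗[k] C)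
    (hF : IsIdempotentElem F) :
    F ∈ Submodule.span k {z : C ⊗[k] C | ∃ f g : C, IsIdempotentElem f ∧ IsIdempotentElem g ∧ z = f ⊗ₜ g} := by
  classical
  haveI : IsNoetherianRing C := Algebra.FiniteType.isNoetherianRing k C
  let fx : (C →ₐ[k] k) → C := fun x =>
    Algebra.TensorProduct.lid k C (Algebra.TensorProduct.map x (AlgHom.id k C) F)
  let gy : (C →ₐ[k] k) → C := fun y =>
    Algebra.TensorProduct.rid k k C (Algebra.TensorProduct.map (AlgHom.id k C) y F)
  let pr : (C →ₐ[k] k) → (C →ₐ[k] k) → C ⊗[k] C →ₐ[k] k := fun x y =>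
    Algebra.TensorProduct.lift x y fun _ _ => Commute.all _ _
  have hxy : ∀ x y, y (fx x) = pr x y F ∧ x (gy y) = pr x y F := by
    intro x y
    simp only [fx, gy, pr]
    clear hF
    induction F using TensorProduct.induction_on with
    | zero => simp
    | tmul a b => simp [mul_comm]
    | add a b ha hb => simp only [map_add, ha.1, ha.2, hb.1, hb.2, and_self]
  have hfx : ∀ x, IsIdempotentElem (fx x) := fun x =>
    (hF.map (Algebra.TensorProduct.map x (AlgHom.id k C))).map (Algebra.TensorProduct.lid k C)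
  have hgy : ∀ y, IsIdempotentElem (gy y) := fun y =>
    (hF.map (Algebra.TensorProduct.map (AlgHom.id k C) y)).map (Algebra.TensorProduct.rid k k C)
  have hfinI : (Set.range fx).Finite := (finite_idempotents C).subset (by rintro _ ⟨x, rfl⟩; exact hfx x)
  have hfinG : (Set.range gy).Finite := (finite_idempotents C).subset (by rintro _ ⟨x, rfl⟩; exact hgy x)
  let G := hfinG.toFinset
  have hG : ∀ g : G, ∃ y, gy y = g := fun g => hfinG.mem_toFinset.mp g.2
  choose yG hyG using hG
  let e : C → C := fun f => ∏ g : G, if yG g f = 1 then (g : C) else 1 - g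
  have h01 : ∀ (x : C →ₐ[k] k) (g : C), IsIdempotentElem g → x g = 0 ∨ x g = 1 := fun x g hg =>
    IsIdempotentElem.iff_eq_zero_or_one.mp (hg.map x)
  have hgI : ∀ g : G, IsIdempotentElem (g : C) := fun g => hyG g ▸ hgy _
  have he : ∀ f, IsIdempotentElem (e f) := fun f =>
    Finset.prod_induction _ IsIdempotentElem (fun _ _ => IsIdempotentElem.mul) IsIdempotentElem.one fun g _ => by
      split_ifs
      · exact hgI g
      · exact (hgI g).one_sub
  have hval : ∀ (x x' : C →ₐ[k] k), x (e (fx x')) = if fx x = fx x' then 1 else 0 := by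
    intro x x'
    rw [map_prod]
    split_ifs with hxx
    · refine Finset.prod_eq_one fun g _ => ?_
      have h1 : yG g (fx x) = x (g : C) := by rw [(hxy x _).1, ← (hxy x _).2, hyG]
      rw [← hxx, h1]
      rcases h01 x g (hgI g) with h0 | h0 <;> simp [h0]
    · by_contra hne
      refine hxx (idem_eq_of_forall_point (k := k) (hfx x) (hfx x') fun y => ?_)
      let g : G := ⟨gy y, hfinG.mem_toFinset.mpr ⟨y, rfl⟩⟩
      have h1 : ∀ z, y (fx z) = yG g (fx z) := fun z => by
        rw [(hxy z _).1, (hxy z _).1, ← (hxy z _).2, ← (hxy z _).2, hyG]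
      have h2 : x (if yG g (fx x') = 1 then (g : C) else 1 - g) ≠ 0 := fun h0 =>
        hne (Finset.prod_eq_zero (Finset.mem_univ g) h0)
      rw [(hxy x y).1, ← (hxy x y).2, h1]
      rcases h01 (yG g) (fx x') (hfx x') with h' | h' <;> rcases h01 x g (hgI g) with h'' | h'' <;>
        simp [h', h'', g] at h2 ⊢
      all_goals (rw [← h''] ; rfl)
  let G' := ∑ f ∈ hfinI.toFinset, e f ⊗ₜ[k] f
  have horth : ∀ f ∈ hfinI.toFinset, ∀ f' ∈ hfinI.toFinset, f ≠ f' → e f * e f' = 0 := by
    intro f hf f' hf' hne
    obtain ⟨x₁, rfl⟩ := hfinI.mem_toFinset.mp hf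
    obtain ⟨x₂, rfl⟩ := hfinI.mem_toFinset.mp hf'
    refine idem_eq_of_forall_point (k := k) ((he _).mul (he _)) IsIdempotentElem.zero fun x => ?_
    rw [map_mul, hval, hval, map_zero]
    split_ifs with h1 h2 <;> simp_all
  have hG' : IsIdempotentElem G' := by
    rw [IsIdempotentElem, Finset.sum_mul]
    refine Finset.sum_congr rfl fun f hf => ?_
    rw [Finset.mul_sum, Finset.sum_eq_single f]
    · rw [Algebra.TensorProduct.tmul_mul_tmul, (he f).eq]
      obtain ⟨x, rfl⟩ := hfinI.mem_toFinset.mp hf
      rw [(hfx x).eq]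
    · intro f' hf' hne
      rw [Algebra.TensorProduct.tmul_mul_tmul, horth f hf f' hf' (Ne.symm hne), zero_tmul]
    · exact fun h => absurd hf h
  haveI : Algebra.FiniteType C (C ⊗[k] C) := Algebra.FiniteType.baseChange C
  haveI : Algebra.FiniteType k (C ⊗[k] C) := Algebra.FiniteType.trans (S := C) inferInstance inferInstance
  have hFG : F = G' := by
    refine idem_eq_of_forall_point (k := k) hF hG' fun z => ?_
    let x := z.comp (Algebra.TensorProduct.includeLeft : C →ₐ[k] C ⊗[k] C)
    let y := z.comp (Algebra.TensorProduct.includeRight : C →ₐ[k] C ⊗[k] C)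
    have hz : z = pr x y := Algebra.TensorProduct.ext (AlgHom.ext fun a => by simp [pr, x]) (AlgHom.ext fun a => by simp [pr, y])
    rw [hz, ← (hxy x y).1, map_sum, Finset.sum_eq_single (fx x)]
    · simp [pr, hval]
    · intro f hf hne
      obtain ⟨x', rfl⟩ := hfinI.mem_toFinset.mp hf
      simp [pr, hval, Ne.symm hne]
    · exact fun h => absurd (hfinI.mem_toFinset.mpr ⟨x, rfl⟩) h
  rw [hFG]
  refine Submodule.sum_mem _ fun f hf => Submodule.subset_span ⟨e f, f, he f, ?_, rfl⟩
  obtain ⟨x, rfl⟩ := hfinI.mem_toFinset.mp hf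
  exact hfx x

/-- An idempotent of a tensor square is built from idempotents. -/
theorem idem_mem_span {C : Type u} [CommRing C] [Algebra k C] (F : C ⊗[k] C) (hF : IsIdempotentElem F) :
    F ∈ Submodule.span k {z : C ⊗[k] C | ∃ f g : C, IsIdempotentElem f ∧ IsIdempotentElem g ∧ z = f ⊗ₜ g} := by
  classical
  obtain ⟨S, hS⟩ := TensorProduct.exists_finset F
  let C₁ := Algebra.adjoin k (↑(S.image Prod.fst ∪ S.image Prod.snd) : Set C)
  haveI : Algebra.FiniteType k C₁ := (Subalgebra.fg_iff_finiteType _).mp ⟨_, rfl⟩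
  let ι := Algebra.TensorProduct.map C₁.val C₁.val
  have hι : Function.Injective ι := TensorProduct.map_injective_of_flat_flat C₁.val.toLinearMap C₁.val.toLinearMap
    Subtype.val_injective Subtype.val_injective
  let F₁ : C₁ ⊗[k] C₁ := ∑ i : S, (⟨i.1.1, Algebra.subset_adjoin (Finset.mem_coe.mpr (Finset.mem_union_left _
    (Finset.mem_image_of_mem _ i.2)))⟩ : C₁) ⊗ₜ ⟨i.1.2, Algebra.subset_adjoin (Finset.mem_coe.mpr (Finset.mem_union_right _
    (Finset.mem_image_of_mem _ i.2)))⟩
  have hF₁ : ι F₁ = F := by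
    rw [hS, map_sum, ← Finset.sum_coe_sort S]
    rfl
  have h1 := idem_mem_span_fg F₁ (hι (by rw [map_mul, hF₁]; exact hF))
  have h2 := Submodule.mem_map_of_mem (f := ι.toLinearMap) h1
  rw [Submodule.map_span, AlgHom.toLinearMap_apply, hF₁] at h2
  refine Submodule.span_mono ?_ h2
  rintro _ ⟨_, ⟨f, g, hf, hg, rfl⟩, rfl⟩
  exact ⟨f.1, g.1, hf.map C₁.val, hg.map C₁.val, rfl⟩

/-- A separable element lies in the span of the idempotents it generates. -/
theorem mem_span_idempotents {A : Type u} [CommRing A] [Algebra k A] {b : A} (hb : IsSeparable k b) :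
    b ∈ Submodule.span k {e | IsIdempotentElem e ∧ e ∈ Algebra.adjoin k {b}} := by
  classical
  let R := (minpoly k b).roots.toFinset
  have hzero : ∀ P : Polynomial k, (∀ r ∈ R, P.eval r = 0) → Polynomial.aeval b P = 0 := by
    intro P hP
    rcases eq_or_ne P 0 with rfl | hP0
    · simp
    have hdvd : minpoly k b ∣ P := by
      rw [Polynomial.Splits.eq_prod_roots (IsAlgClosed.splits (minpoly k b)), minpoly.monic hb.isIntegral |>.leadingCoeff,
        map_one, one_mul, Multiset.prod_X_sub_C_dvd_iff_le_roots hP0,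
        Multiset.le_iff_subset (Polynomial.nodup_roots hb)]
      exact fun r hr => (Polynomial.mem_roots hP0).mpr (hP r (Multiset.mem_toFinset.mpr hr))
    obtain ⟨Q, rfl⟩ := hdvd
    rw [map_mul, minpoly.aeval, zero_mul]
  have h1 : b = ∑ r ∈ R, r • Polynomial.aeval b (Lagrange.basis R id r) := by
    have := hzero (Polynomial.X - ∑ r ∈ R, Polynomial.C r * Lagrange.basis R id r) fun s hs => by
      rw [Polynomial.eval_sub, Polynomial.eval_finsetSum, Polynomial.eval_X, Finset.sum_eq_single s]
      · have h := Lagrange.eval_basis_self (Set.injOn_id _) hs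
        simp only [id] at h
        simp [h]
      · intro r hr hrs
        have h := Lagrange.eval_basis_of_ne (v := (id : k → k)) hrs hs
        simp only [id] at h
        simp [h]
      · exact fun h => absurd hs h
    rw [map_sub, map_sum, sub_eq_zero, Polynomial.aeval_X] at this
    simpa [Algebra.smul_def] using this
  refine (congrArg (· ∈ Submodule.span k {e | IsIdempotentElem e ∧ e ∈ Algebra.adjoin k {b}}) h1).mpr ?_
  refine Submodule.sum_mem _ fun r hr => Submodule.smul_mem _ _ (Submodule.subset_span ⟨?_, ?_⟩)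
  · have := hzero (Lagrange.basis R id r * Lagrange.basis R id r - Lagrange.basis R id r) fun s hs => by
      rcases eq_or_ne r s with rfl | hrs
      · have h := Lagrange.eval_basis_self (Set.injOn_id _) hs
        simp only [id] at h
        simp [h]
      · have h := Lagrange.eval_basis_of_ne (v := (id : k → k)) hrs hs
        simp only [id] at h
        simp [h]
    rw [map_sub, map_mul, sub_eq_zero] at this
    exact this
  · exact Algebra.adjoin_singleton_eq_range_aeval k b ▸ ⟨_, rfl⟩

theorem isSeparable_of_isIdempotentElem {A : Type u} [CommRing A] [Algebra k A] {e : A} (he : IsIdempotentElem e) :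
    IsSeparable k e := by
  refine Polynomial.Separable.of_dvd ?_ (minpoly.dvd k e (p := Polynomial.X * (Polynomial.X - Polynomial.C (1 : k))) ?_)
  · refine Polynomial.Separable.mul Polynomial.separable_X (Polynomial.separable_X_sub_C) ⟨1, -1, ?_⟩
    simp
  · simp [mul_sub, he.eq]

/-- The separable part of a Hopf subalgebra is a Hopf subalgebra. -/
theorem isHopfSubalgebra_sep {A : Type u} [CommRing A] [HopfAlgebra k A] (B₀ : Subalgebra k A)
    (hB₀ : ∀ a : A, a ∈ B₀ ↔ IsSeparable k a) (C : Subalgebra k A) (hC : SGA3.IsHopfSubalgebra k A C) :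
    SGA3.IsHopfSubalgebra k A (B₀ ⊓ C) := by
  classical
  let D := B₀ ⊓ C
  have hidem : ∀ e, IsIdempotentElem e → e ∈ C → e ∈ D := fun e he hec =>
    ⟨(hB₀ e).mpr (isSeparable_of_isIdempotentElem he), hec⟩
  have hspan : ∀ b ∈ D, b ∈ Submodule.span k {e | IsIdempotentElem e ∧ e ∈ C} := fun b hb => by
    refine Submodule.span_mono ?_ (mem_span_idempotents ((hB₀ b).mp hb.1))
    exact fun e he => ⟨he.1, Algebra.adjoin_le (Set.singleton_subset_iff.mpr hb.2) he.2⟩
  refine ⟨fun b hb => ?_, fun b hb => ?_⟩
  · have hb' := hspan b hb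
    clear hb
    induction hb' using Submodule.span_induction with
    | mem e he =>
      obtain ⟨F, hF⟩ := hC.1 e he.2
      let ι := Algebra.TensorProduct.map C.val C.val
      have hι : Function.Injective ι := TensorProduct.map_injective_of_flat_flat C.val.toLinearMap C.val.toLinearMap
        Subtype.val_injective Subtype.val_injective
      have hFe : ι F = Bialgebra.comulAlgHom k A e := hF
      have h1 := Submodule.mem_map_of_mem (f := TensorProduct.map C.val.toLinearMap C.val.toLinearMap)
        (idem_mem_span F (hι (by rw [map_mul, hFe]; exact he.1.map (Bialgebra.comulAlgHom k A))))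
      rw [hF, Submodule.map_span] at h1
      refine Submodule.span_le.mpr ?_ h1
      rintro _ ⟨_, ⟨f, g, hf, hg, rfl⟩, rfl⟩
      exact ⟨⟨f.1, hidem _ (hf.map C.val) f.2⟩ ⊗ₜ ⟨g.1, hidem _ (hg.map C.val) g.2⟩, rfl⟩
    | zero => rw [map_zero]; exact Submodule.zero_mem _
    | add x y _ _ hx hy => rw [map_add]; exact Submodule.add_mem _ (hx) (hy)
    | smul r x _ hx => rw [map_smul]; exact Submodule.smul_mem _ r hx
  · have hb' := hspan b hb
    clear hb
    induction hb' using Submodule.span_induction with
    | mem e he => exact hidem _ (he.1.map (HopfAlgebra.antipodeAlgHom k A)) (hC.2 e he.2)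
    | zero => rw [map_zero]; exact D.zero_mem
    | add x y _ _ hx hy => rw [map_add]; exact D.add_mem hx hy
    | smul r x _ hx => rw [map_smul]; exact D.smul_mem hx r

end GrothLib.Hopf14
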