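import Groth.Prelude.Def_HopfRep
import Groth.Agent.Lib.ProjDescent.Main

/-!
The smallest subcomodule containing a submodule, for a projective coalgebra.
-/

universe u v w

set_option linter.style.haveILetI false

open TensorProduct

namespace GrothLib.Hopf14

variable {A : Type u} [CommRing A] {C : Type v} [AddCommGroup C] [Module A C]
  {V : Type w} [AddCommGroup V] [Module A V]

/-- The coefficient of a tensor at a functional. -/
noncomputable def coefAt (φ : C →ₗ[A] A) : V ⊗[A] C →ₗ[A] V :=
  (TensorProduct.rid A V).toLinearMap ∘ₗ φ.lTensor V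

theorem coefAt_tmul (φ : C →ₗ[A] A) (v : V) (c : C) : coefAt φ (v ⊗ₜ c) = φ c • v := by
  simp [coefAt]

variable [Coalgebra A C] [HopfRep.Comod A C V]

theorem coefAt_coact_mem (φ : C →ₗ[A] A) {W : Submodule A V} (hW : HopfRep.IsSubcomod (k := A) (A := C) W) {w : V}
    (hw : w ∈ W) : coefAt φ (HopfRep.Comod.coact (k := A) (A := C) w) ∈ W := by
  obtain ⟨z, hz⟩ := hW w hw
  rw [← hz]
  clear hz
  induction z using TensorProduct.induction_on with
  | zero => simp
  | tmul x c => rw [LinearMap.rTensor_tmul, coefAt_tmul]; exact W.smul_mem _ x.2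
  | add x y hx hy => rw [map_add, map_add]; exact W.add_mem hx hy

/-- A tensor is a finite sum of its coefficients times fixed vectors. -/
theorem exists_expansion [Module.Projective A C] :
    ∃ (J : Type v) (φ : J → (C →ₗ[A] A)) (x : J → C), ∀ z : V ⊗[A] C,
      ∃ S : Finset J, z = ∑ j ∈ S, coefAt (φ j) z ⊗ₜ x j ∧ ∀ j, j ∉ S → coefAt (φ j) z = 0 := by
  classical
  obtain ⟨i, hi⟩ := (Module.projective_def'.mp (inferInstance : Module.Projective A C))
  refine ⟨C, fun j => Finsupp.lapply j ∘ₗ i, id, fun z => ?_⟩
  let e := TensorProduct.finsuppScalarRight A A V C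
  have hcoef : ∀ j, coefAt (Finsupp.lapply j ∘ₗ i) z = e (i.lTensor V z) j := by
    intro j
    induction z using TensorProduct.induction_on with
    | zero => simp
    | tmul v c => simp [coefAt_tmul, e, TensorProduct.finsuppScalarRight_apply_tmul_apply]
    | add a b ha hb => simp only [map_add, Finsupp.add_apply, ha, hb]
  refine ⟨(e (i.lTensor V z)).support, ?_, fun j hj => ?_⟩
  · conv_lhs => rw [show z = (Finsupp.linearCombination A (id : C → C)).lTensor V (i.lTensor V z) by
      rw [← LinearMap.comp_apply, ← LinearMap.lTensor_comp, hi, LinearMap.lTensor_id, LinearMap.id_apply],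
      ← e.symm_apply_apply (i.lTensor V z), ← (e (i.lTensor V z)).sum_single, Finsupp.sum, map_sum, map_sum]
    refine Finset.sum_congr rfl fun j _ => ?_
    rw [hcoef, TensorProduct.finsuppScalarRight_symm_apply_single]
    simp
  · rw [hcoef]; exact Finsupp.notMem_support_iff.mp hj

/-- Every submodule lies in a smallest subcomodule, finitely generated with it. -/
theorem exists_smallest_subcomod [Module.Projective A C] (M : Submodule A V) :
    ∃ W : Submodule A V, HopfRep.IsSubcomod (k := A) (A := C) W ∧ M ≤ W ∧
      (∀ W' : Submodule A V, HopfRep.IsSubcomod (k := A) (A := C) W' → M ≤ W' → W ≤ W') ∧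
      (M.FG → W.FG) := by
  classical
  obtain ⟨J, φ, x, hexp⟩ := exists_expansion (A := A) (C := C) (V := V)
  choose S hS hS' using hexp
  let ρ := HopfRep.Comod.coact (k := A) (A := C) (V := V)
  let c : J → V →ₗ[A] V := fun j => coefAt (φ j) ∘ₗ ρ
  let W : Submodule A V := ⨆ j, M.map (c j)
  have hmem : ∀ j, ∀ m ∈ M, c j m ∈ W := fun j m hm =>
    Submodule.mem_iSup_of_mem j (Submodule.mem_map_of_mem hm)
  refine ⟨W, ?_, fun m hm => ?_, fun W' hW' hMW' => ?_, fun hM => ?_⟩
  · suffices hc : ∀ l, ∀ w ∈ W, c l w ∈ W by
      intro w hw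
      rw [show HopfRep.Comod.coact (k := A) (A := C) w = _ from hS (ρ w)]
      exact Submodule.sum_mem _ fun j _ => ⟨⟨_, hc j w hw⟩ ⊗ₜ x j, by simp [c]⟩
    intro l w hw
    induction hw using Submodule.iSup_induction' with
    | mem j w hw =>
      obtain ⟨m, hm, rfl⟩ := hw
      let ψ : C →ₗ[A] A := LinearMap.mul' A A ∘ₗ TensorProduct.map (φ l) (φ j) ∘ₗ Coalgebra.comul
      have h1 : c l (c j m) = coefAt ψ (ρ m) := by
        have h2 : c l (c j m) = coefAt (LinearMap.mul' A A ∘ₗ TensorProduct.map (φ l) (φ j))
            (TensorProduct.assoc A V C C (ρ.rTensor C (ρ m))) := by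
          change coefAt (φ l) (ρ (coefAt (φ j) (ρ m))) = _
          induction ρ m using TensorProduct.induction_on with
          | zero => simp
          | add a b ha hb => simp only [map_add, ha, hb]
          | tmul v d =>
            rw [coefAt_tmul, map_smul, map_smul, LinearMap.rTensor_tmul]
            induction ρ v using TensorProduct.induction_on with
            | zero => simp
            | add a b ha hb => simp only [map_add, add_tmul, smul_add, ha, hb]
            | tmul v' d' => simp only [coefAt, LinearMap.comp_apply]; simp [smul_smul, mul_comm]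
        rw [h2, show TensorProduct.assoc A V C C (ρ.rTensor C (ρ m)) = Coalgebra.comul.lTensor V (ρ m) from
          LinearMap.congr_fun (HopfRep.Comod.coassoc (k := A) (A := C) (V := V)) m]
        induction ρ m using TensorProduct.induction_on with
        | zero => simp
        | add a b ha hb => simp only [map_add, ha, hb]
        | tmul v d =>
          rw [LinearMap.lTensor_tmul, coefAt_tmul, coefAt_tmul]
          rfl
      rw [h1, hS (ρ m), map_sum]
      exact Submodule.sum_mem _ fun q _ => by rw [coefAt_tmul]; exact W.smul_mem _ (hmem q m hm)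
    | zero => rw [map_zero]; exact W.zero_mem
    | add a b _ _ ha hb => rw [map_add]; exact W.add_mem ha hb
  · have h0 := LinearMap.congr_fun (HopfRep.Comod.counit_comp (k := A) (A := C) (V := V)) m
    have h1 := congrArg (TensorProduct.rid A V) h0
    simp only [LinearMap.flip_apply, TensorProduct.mk_apply, TensorProduct.rid_tmul, one_smul,
      LinearMap.comp_apply] at h1
    rw [← h1, show HopfRep.Comod.coact (k := A) (A := C) m = _ from hS (ρ m), map_sum, map_sum]
    exact Submodule.sum_mem _ fun j _ => by simp [c]; exact W.smul_mem _ (hmem j m hm)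
  · exact iSup_le fun j => Submodule.map_le_iff_le_comap.mpr fun m hm => coefAt_coact_mem _ hW' (hMW' hm)
  · obtain ⟨t, ht⟩ := hM
    let T : Finset J := t.biUnion fun m => S (ρ m)
    have hW : W = ⨆ j ∈ T, M.map (c j) := by
      refine le_antisymm (iSup_le fun j => ?_) (iSup₂_le fun j _ => le_iSup (fun j => M.map (c j)) j)
      by_cases hj : j ∈ T
      · exact le_biSup (fun j => M.map (c j)) hj
      · rw [← ht, Submodule.map_span, Submodule.span_le]
        rintro _ ⟨m, hm, rfl⟩
        rw [SetLike.mem_coe, show c j m = 0 from hS' (ρ m) j fun h => hj (Finset.mem_biUnion.mpr ⟨m, hm, h⟩)]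
        exact zero_mem _
    rw [hW]
    exact Submodule.fg_biSup T _ fun j _ => Submodule.FG.map _ ⟨t, ht⟩

end GrothLib.Hopf14
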