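import Groth.Agent.Lib.Comod.TraceIntegral
import Mathlib.RingTheory.Etale.Field
import Mathlib.RingTheory.Etale.Descent
import Mathlib.RingTheory.HopfAlgebra.TensorProduct
import Mathlib.LinearAlgebra.TensorProduct.Basis
import Mathlib.FieldTheory.IsAlgClosed.AlgebraicClosure
import Mathlib.FieldTheory.Perfect
import Mathlib.RingTheory.Artinian.Module

/-!
A finite commutative Hopf algebra of invertible rank over a field is etale.
-/

universe u

set_option linter.style.haveILetI false

open TensorProduct

namespace GrothLib.Hopf14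

/-- A finite commutative Hopf algebra of invertible rank over a field is etale. -/
theorem etale_of_finrank_ne_zero (k : Type u) [Field k] (A : Type u) [CommRing A] [HopfAlgebra k A] [Module.Finite k A]
    (h : (Module.finrank k A : k) ≠ 0) : Algebra.Etale k A := by
  have core : ∀ (K : Type u) [Field K] (B : Type u) [CommRing B] [HopfAlgebra K B] [Module.Finite K B],
      (Module.finrank K B : K) ≠ 0 → IsReduced B := by
    intro K _ B _ _ _ hn
    classical
    let τ := Algebra.trace K B
    let e := Module.Free.chooseBasis K B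
    have hI : ∀ a : B, (∀ b, τ (a * b) = 0) → ∃ q : Module.Free.ChooseBasisIndex K B →₀ B,
        (q.sum fun i x => e i ⊗ₜ[K] x) = GrothLib.Comodule.shearHom K B (1 ⊗ₜ a) ∧ ∀ i b, τ (q i * b) = 0 := by
      intro a ha
      obtain ⟨q, hq⟩ := TensorProduct.eq_repr_basis_left e (GrothLib.Comodule.shearHom K B (1 ⊗ₜ a))
      refine ⟨q, hq, fun i b => ?_⟩
      have h0 : Algebra.trace B (B ⊗[K] B) (GrothLib.Comodule.shearHom K B (1 ⊗ₜ a) * (1 ⊗ₜ b)) = 0 := by
        rw [← GrothLib.Comodule.shear_unshear ((1 : B) ⊗ₜ[K] b), ← map_mul]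
        refine (Algebra.trace_eq_of_algEquiv (GrothLib.Comodule.shear K B) _).trans ?_
        induction GrothLib.Comodule.unshearHom K B ((1 : B) ⊗ₜ[K] b) using TensorProduct.induction_on with
        | zero => simp
        | tmul p r =>
          rw [Algebra.TensorProduct.tmul_mul_tmul, GrothLib.Comodule.trace_tmul', ha, zero_smul]
        | add x y hx hy => rw [mul_add, map_add, hx, hy, add_zero]
      rw [← hq, Finsupp.sum, Finset.sum_mul, map_sum] at h0
      simp only [Algebra.TensorProduct.tmul_mul_tmul, mul_one, GrothLib.Comodule.trace_tmul'] at h0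
      have h1 := Fintype.linearIndependent_iff.mp e.linearIndependent (fun i => τ (q i * b)) (by
        rw [← Finset.sum_subset (Finset.subset_univ q.support) (fun j _ hj => by
          rw [Finsupp.notMem_support_iff.mp hj, zero_mul, map_zero, zero_smul])]
        exact h0)
      exact h1 i
    have hcz : ∀ a, GrothLib.Comodule.shearHom K B (1 ⊗ₜ a) = TensorProduct.comm K B B (Coalgebra.comul (R := K) a) :=
      fun a => by rw [GrothLib.Comodule.shear_tmul, ← Algebra.TensorProduct.one_def, one_mul]
    have hε : ∀ a : B, (∀ b, τ (a * b) = 0) → Coalgebra.counit (R := K) a = 0 := by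
      intro a ha
      obtain ⟨q, hq, hqτ⟩ := hI a ha
      have h1 := congrArg (LinearMap.mul' K B ∘ₗ (HopfAlgebraStruct.antipode K (A := B)).rTensor B) (hq.trans (hcz a))
      have h2 : (LinearMap.mul' K B ∘ₗ (HopfAlgebraStruct.antipode K (A := B)).rTensor B)
          (TensorProduct.comm K B B (Coalgebra.comul (R := K) a)) = algebraMap K B (Coalgebra.counit a) := by
        rw [← HopfAlgebra.mul_antipode_lTensor_comul_apply a]
        induction Coalgebra.comul (R := K) a using TensorProduct.induction_on with
        | zero => simp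
        | tmul p r => simp [mul_comm]
        | add x y hx hy => simp only [map_add, hx, hy]
      rw [h2, Finsupp.sum, map_sum] at h1
      simp only [LinearMap.comp_apply, LinearMap.rTensor_tmul, LinearMap.mul'_apply] at h1
      have h3 := congrArg τ h1
      rw [map_sum, Finset.sum_eq_zero (fun i _ => by rw [mul_comm]; exact hqτ i _)] at h3
      simp only [τ, Algebra.trace_algebraMap, nsmul_eq_mul] at h3
      exact (mul_eq_zero.mp h3.symm).resolve_left hn
    refine ⟨fun a han => ?_⟩
    have ha : ∀ b, τ (a * b) = 0 := fun b => by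
      refine IsNilpotent.eq_zero ?_
      rw [Algebra.trace_apply]
      exact LinearMap.isNilpotent_trace_of_isNilpotent
        (((Commute.all a b).isNilpotent_mul_right han).map (Algebra.lmul K B))
    obtain ⟨q, hq, hqτ⟩ := hI a ha
    have h1 := congrArg ((TensorProduct.rid K B).toLinearMap ∘ₗ (Coalgebra.counit (R := K) (A := B)).lTensor B) (hq.trans (hcz a))
    rw [Finsupp.sum, map_sum] at h1
    simp only [LinearMap.comp_apply, LinearMap.lTensor_tmul, LinearEquiv.coe_coe, TensorProduct.rid_tmul] at h1
    rw [Finset.sum_eq_zero (fun i _ => by rw [hε _ (hqτ i), zero_smul])] at h1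
    have h4 : TensorProduct.rid K B ((Coalgebra.counit (R := K) (A := B)).lTensor B
        (TensorProduct.comm K B B (Coalgebra.comul (R := K) a))) = a := by
      rw [LinearMap.lTensor, TensorProduct.map_comm, ← LinearMap.rTensor, Coalgebra.rTensor_counit_comul]
      simp
    rw [← h4, ← h1]
  let K := AlgebraicClosure k
  haveI : IsReduced (K ⊗[k] A) := core K (K ⊗[k] A) (by
    rw [Module.finrank_baseChange, ← map_natCast (algebraMap k K)]
    exact (map_ne_zero _).mpr h)
  haveI : IsArtinianRing (K ⊗[k] A) := IsArtinianRing.of_finite K (K ⊗[k] A)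
  haveI : Algebra.Etale K (K ⊗[k] A) := by
    rw [Algebra.Etale.iff_exists_algEquiv_prod]
    let e : K ⊗[k] A ≃ₐ[K] ∀ I : MaximalSpectrum (K ⊗[k] A), (K ⊗[k] A) ⧸ I.asIdeal :=
      { IsArtinianRing.equivPi (K ⊗[k] A) with commutes' := fun x => rfl }
    haveI : Fintype (MaximalSpectrum (K ⊗[k] A)) := Fintype.ofFinite _
    refine ⟨MaximalSpectrum (K ⊗[k] A), inferInstance, fun I => (K ⊗[k] A) ⧸ I.asIdeal,
      fun I => Ideal.Quotient.field I.asIdeal, inferInstance, e, fun I => ?_⟩
    letI := Ideal.Quotient.field I.asIdeal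
    exact ⟨inferInstance, Algebra.IsAlgebraic.isSeparable_of_perfectField⟩
  exact Algebra.Etale.of_etale_tensorProduct_of_faithfullyFlat K

end GrothLib.Hopf14
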